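/-
Linear algebra on the Frattini quotient of a finite `p`-group of rank at most two:
the action of automorphisms, the Burnside kernel, and the element `-1` in a group generated
by `p`-elements of `GL₂(p)` which is not a `p`-group.
-/
import Mathlib
import Cfsg.Agent.Lib.PGroup.FrattiniBasis
import Cfsg.Agent.Lib.PGroup.ActionFrattini
import Cfsg.Prelude.Def_OddOrderLocal

set_option autoImplicit false

namespace Cfsg.Agent.Lib.Fusion.Resist.GL

open Cfsg.Agent.Lib.PGroup

section Linear

variable {p : ℕ} [hp : Fact p.Prime] {V : Type*} [AddCommGroup V] [Module (ZMod p) V] [Finite V]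

/-- A `p`-element of `GL(V)` has a nonzero fixed vector if `V ≠ 0`. -/
theorem exists_fixed (x : V ≃ₗ[ZMod p] V) {k : ℕ} (hx : x ^ p ^ k = 1) (v : V) (hv : v ≠ 0) :
    ∃ u : V, u ≠ 0 ∧ x u = u := by
  classical
  haveI : Module.Finite (ZMod p) V := Module.Finite.of_finite
  have hG : IsPGroup p (Subgroup.zpowers x) := by
    rintro ⟨y, m, rfl⟩
    refine ⟨k, ?_⟩
    apply Subtype.ext
    show (x ^ m) ^ p ^ k = 1
    rw [← zpow_natCast, ← zpow_mul, mul_comm, zpow_mul, zpow_natCast, hx, one_zpow]
  have hcard : p ∣ Nat.card V := by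
    have hne : Nat.card V ≠ 1 := by
      intro h
      haveI := (Nat.card_eq_one_iff_unique.1 h).1
      exact hv (Subsingleton.elim _ _)
    rw [Module.natCard_eq_pow_finrank (K := ZMod p), Nat.card_zmod] at *
    have : Module.finrank (ZMod p) V ≠ 0 := by
      intro h0
      rw [h0, pow_zero] at hne
      exact hne rfl
    exact dvd_pow_self p this
  have h0 : (0 : V) ∈ MulAction.fixedPoints (Subgroup.zpowers x) V := by
    intro g
    exact map_zero (g : V ≃ₗ[ZMod p] V)
  obtain ⟨b, hb, hne⟩ := hG.exists_fixed_point_of_prime_dvd_card_of_fixed_point V hcard h0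
  refine ⟨b, hne.symm, ?_⟩
  exact hb ⟨x, Subgroup.mem_zpowers x⟩

/-- A `p`-element fixing `u` acts trivially on `V / ⟨u⟩` for `dim V ≤ 2`. -/
theorem exists_add_smul (hV : Module.finrank (ZMod p) V ≤ 2) (x : V ≃ₗ[ZMod p] V) {k : ℕ}
    (hx : x ^ p ^ k = 1) {u : V} (hu : u ≠ 0) (hxu : x u = u) (w : V) :
    ∃ d : ZMod p, x w = w + d • u := by
  classical
  haveI : Module.Finite (ZMod p) V := Module.Finite.of_finite
  by_cases hw : w ∈ Submodule.span (ZMod p) {u}
  · obtain ⟨a, rfl⟩ := Submodule.mem_span_singleton.1 hw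
    exact ⟨0, by simp [hxu]⟩
  · have hli : LinearIndependent (ZMod p) ![u, w] := by
      rw [LinearIndependent.pair_iff' hu]
      intro a h
      apply hw
      rw [Submodule.mem_span_singleton]
      exact ⟨a, h⟩
    have hcard : Fintype.card (Fin 2) = Module.finrank (ZMod p) V := by
      have h1 := hli.fintype_card_le_finrank
      simp only [Fintype.card_fin] at h1 ⊢
      omega
    have hspan := hli.span_eq_top_of_card_eq_finrank hcard
    have hxw : x w ∈ Submodule.span (ZMod p) (Set.range ![u, w]) := by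
      rw [hspan]
      trivial
    rw [Matrix.range_cons, Matrix.range_cons, Matrix.range_empty, Set.union_empty,
      Set.singleton_union, Submodule.mem_span_pair] at hxw
    obtain ⟨a, c, hac⟩ := hxw
    -- iterate
    have hpow : ∀ n : ℕ, ∃ a' : ZMod p, (x ^ n) w = a' • u + c ^ n • w := by
      intro n
      induction n with
      | zero => exact ⟨0, by simp⟩
      | succ n ih =>
        obtain ⟨a', ha'⟩ := ih
        refine ⟨a' + c ^ n * a, ?_⟩
        rw [pow_succ', LinearEquiv.mul_apply, ha', map_add, map_smul, map_smul, hxu, ← hac]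
        simp only [smul_add, smul_smul, add_smul]
        rw [pow_succ]
        abel
    obtain ⟨a', ha'⟩ := hpow (p ^ k)
    rw [hx] at ha'
    have h1 : c ^ p ^ k = c := ZMod.pow_card_pow c
    rw [h1] at ha'
    have h2 : a' • u + (c - 1) • w = 0 := by
      have : (1 : V ≃ₗ[ZMod p] V) w = w := rfl
      rw [this] at ha'
      rw [sub_smul, one_smul, ← add_sub_assoc, ← ha', sub_self]
    have h3 := (LinearIndependent.pair_iff.1 hli) a' (c - 1) h2
    have hc : c = 1 := sub_eq_zero.1 h3.2
    refine ⟨a, ?_⟩
    rw [← hac, hc, one_smul, add_comm]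

/-- Iteration of `x w = w + d • u` with `x u = u`. -/
theorem pow_apply_add_smul (x : V ≃ₗ[ZMod p] V) {u w : V} {d : ZMod p} (hxu : x u = u)
    (hxw : x w = w + d • u) (n : ℕ) : (x ^ n) w = w + ((n : ZMod p) * d) • u := by
  induction n with
  | zero => simp
  | succ n ih =>
    rw [pow_succ', LinearEquiv.mul_apply, ih, map_add, map_smul, hxu, hxw]
    push_cast
    rw [add_mul, one_mul, add_smul]
    abel

theorem pow_apply_fixed (x : V ≃ₗ[ZMod p] V) {u : V} (hxu : x u = u) (n : ℕ) : (x ^ n) u = u := by
  induction n with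
  | zero => rfl
  | succ n ih => rw [pow_succ', LinearEquiv.mul_apply, ih, hxu]

/-- The group of transvections with center `u`. -/
def transvGroup (u : V) : Subgroup (V ≃ₗ[ZMod p] V) where
  carrier := {x | x u = u ∧ ∀ w, ∃ d : ZMod p, x w = w + d • u}
  one_mem' := ⟨rfl, fun w => ⟨0, by simp⟩⟩
  mul_mem' := by
    rintro x y ⟨hxu, hx⟩ ⟨hyu, hy⟩
    refine ⟨by rw [LinearEquiv.mul_apply, hyu, hxu], fun w => ?_⟩
    obtain ⟨d, hd⟩ := hy w
    obtain ⟨d', hd'⟩ := hx w
    refine ⟨d' + d, ?_⟩
    rw [LinearEquiv.mul_apply, hd, map_add, map_smul, hxu, hd', add_smul]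
    abel
  inv_mem' := by
    rintro x ⟨hxu, hx⟩
    have hinv : ∀ v, x⁻¹ (x v) = v := fun v => x.symm_apply_apply v
    have hxu' : x⁻¹ u = u := by
      conv_lhs => rw [← hxu]
      exact hinv u
    refine ⟨hxu', fun w => ?_⟩
    obtain ⟨d, hd⟩ := hx w
    refine ⟨-d, ?_⟩
    have h1 : w = x⁻¹ (x w) := (hinv w).symm
    have h2 : x⁻¹ w = x⁻¹ (x w + (-d) • u) := by
      rw [hd]
      congr 1
      rw [neg_smul]
      abel
    rw [h2, map_add, map_smul, hxu', ← h1]

theorem isPGroup_transvGroup (u : V) : IsPGroup p (transvGroup (p := p) u) := by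
  rintro ⟨x, hxu, hx⟩
  refine ⟨1, ?_⟩
  apply Subtype.ext
  ext w
  obtain ⟨d, hd⟩ := hx w
  have h := pow_apply_add_smul x hxu hd p
  simp only [CharP.cast_eq_zero, zero_mul, zero_smul, add_zero] at h
  simpa using h

/-- **The element `-1`**: a subgroup of `GL(V)`, `dim V ≤ 2`, generated by `p`-elements, and not a
`p`-group, contains `-1`. -/
theorem neg_mem_closure (hV : Module.finrank (ZMod p) V ≤ 2) {X : Set (V ≃ₗ[ZMod p] V)}
    (hX : ∀ x ∈ X, ∃ k : ℕ, x ^ p ^ k = 1) (hnp : ¬ IsPGroup p (Subgroup.closure X)) :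
    LinearEquiv.neg (ZMod p) ∈ Subgroup.closure X := by
  classical
  haveI : Module.Finite (ZMod p) V := Module.Finite.of_finite
  -- no common fixed vector
  have hno : ∀ u : V, u ≠ 0 → ∃ x ∈ X, x u ≠ u := by
    intro u hu
    by_contra hcon
    push Not at hcon
    apply hnp
    have hle : Subgroup.closure X ≤ transvGroup (p := p) u := by
      rw [Subgroup.closure_le]
      intro x hx
      obtain ⟨k, hk⟩ := hX x hx
      exact ⟨hcon x hx, exists_add_smul hV x hk hu (hcon x hx)⟩
    exact (isPGroup_transvGroup u).to_le hle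
  -- `V ≠ 0`
  have hex : ∃ v : V, v ≠ 0 := by
    by_contra hcon
    push Not at hcon
    apply hnp
    have hb : Subgroup.closure X = ⊥ := by
      rw [eq_bot_iff, Subgroup.closure_le]
      intro x _
      rw [SetLike.mem_coe, Subgroup.mem_bot]
      ext w
      rw [hcon (x w), hcon ((1 : V ≃ₗ[ZMod p] V) w)]
    rw [hb]
    exact IsPGroup.of_bot
  obtain ⟨v, hv⟩ := hex
  obtain ⟨x₁, hx₁, hx₁v⟩ := hno v hv
  obtain ⟨k₁, hk₁⟩ := hX x₁ hx₁
  obtain ⟨u₁, hu₁, hxu₁⟩ := exists_fixed x₁ hk₁ v hv
  obtain ⟨x₂, hx₂, hx₂u₁⟩ := hno u₁ hu₁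
  obtain ⟨k₂, hk₂⟩ := hX x₂ hx₂
  obtain ⟨u₂, hu₂, hxu₂⟩ := exists_fixed x₂ hk₂ v hv
  -- independence
  have hind : LinearIndependent (ZMod p) ![u₁, u₂] := by
    rw [LinearIndependent.pair_iff' hu₁]
    intro a h
    apply hx₂u₁
    have ha : a ≠ 0 := by
      rintro rfl
      apply hu₂
      rw [← h, zero_smul]
    have h1 : u₁ = a⁻¹ • u₂ := by
      rw [← h, smul_smul, inv_mul_cancel₀ ha, one_smul]
    rw [h1, map_smul, hxu₂]
  have hcard : Fintype.card (Fin 2) = Module.finrank (ZMod p) V := by
    have h1 := hind.fintype_card_le_finrank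
    simp only [Fintype.card_fin] at h1 ⊢
    omega
  have hspan : Submodule.span (ZMod p) (Set.range ![u₁, u₂]) = ⊤ :=
    hind.span_eq_top_of_card_eq_finrank hcard
  obtain ⟨d, hd⟩ := exists_add_smul hV x₁ hk₁ hu₁ hxu₁ u₂
  obtain ⟨d', hd'⟩ := exists_add_smul hV x₂ hk₂ hu₂ hxu₂ u₁
  have hdne : d ≠ 0 := by
    rintro rfl
    rw [zero_smul, add_zero] at hd
    apply hx₁v
    have : (x₁ : V →ₗ[ZMod p] V) = LinearMap.id := by
      apply LinearMap.ext_on_range hspan
      intro i
      fin_cases i
      · simpa using hxu₁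
      · simpa using hd
    exact LinearMap.congr_fun this v
  have hd'ne : d' ≠ 0 := by
    rintro rfl
    rw [zero_smul, add_zero] at hd'
    exact hx₂u₁ hd'
  -- normalized transvections
  set e := x₁ ^ (d⁻¹).val with he
  set f := x₂ ^ (-d'⁻¹).val with hf
  have heu₁ : e u₁ = u₁ := pow_apply_fixed _ hxu₁ _
  have heu₂ : e u₂ = u₂ + u₁ := by
    rw [he, pow_apply_add_smul x₁ hxu₁ hd, ZMod.natCast_val, ZMod.cast_id', id, inv_mul_cancel₀ hdne,
      one_smul]
  have hfu₂ : f u₂ = u₂ := pow_apply_fixed _ hxu₂ _
  have hfu₁ : f u₁ = u₁ - u₂ := by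
    rw [hf, pow_apply_add_smul x₂ hxu₂ hd', ZMod.natCast_val, ZMod.cast_id', id, neg_mul,
      inv_mul_cancel₀ hd'ne, neg_smul, one_smul, sub_eq_add_neg]
  have hmem : (e * f * e) * (e * f * e) ∈ Subgroup.closure X := by
    have h1 : e ∈ Subgroup.closure X := Subgroup.pow_mem _ (Subgroup.subset_closure hx₁) _
    have h2 : f ∈ Subgroup.closure X := Subgroup.pow_mem _ (Subgroup.subset_closure hx₂) _
    exact mul_mem (mul_mem (mul_mem h1 h2) h1) (mul_mem (mul_mem h1 h2) h1)
  have hw₁ : (e * f * e) u₁ = -u₂ := by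
    simp only [LinearEquiv.mul_apply, heu₁, hfu₁, map_sub, heu₂]
    abel
  have hw₂ : (e * f * e) u₂ = u₁ := by
    have h3 : u₂ + (u₁ - u₂) = u₁ := by abel
    rw [LinearEquiv.mul_apply, LinearEquiv.mul_apply, heu₂, map_add, hfu₂, hfu₁, h3, heu₁]
  have heq : (e * f * e) * (e * f * e) = LinearEquiv.neg (ZMod p) := by
    apply LinearEquiv.toLinearMap_injective
    apply LinearMap.ext_on_range hspan
    intro i
    fin_cases i
    · show (e * f * e) ((e * f * e) u₁) = -u₁
      rw [hw₁, map_neg, hw₂]
    · show (e * f * e) ((e * f * e) u₂) = -u₂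
      rw [hw₂, hw₁]
  rwa [heq] at hmem

/-- In dimension one, a `p`-element is trivial. -/
theorem eq_one_of_finrank_le_one (hV : Module.finrank (ZMod p) V ≤ 1) (x : V ≃ₗ[ZMod p] V) {k : ℕ}
    (hx : x ^ p ^ k = 1) : x = 1 := by
  classical
  haveI : Module.Finite (ZMod p) V := Module.Finite.of_finite
  ext v
  by_cases hv : v = 0
  · simp [hv]
  obtain ⟨u, hu, hxu⟩ := exists_fixed x hx v hv
  have hspan : Submodule.span (ZMod p) {u} = ⊤ := by
    apply Submodule.eq_top_of_finrank_eq
    have h1 : Module.finrank (ZMod p) (Submodule.span (ZMod p) ({u} : Set V)) = 1 :=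
      finrank_span_singleton hu
    have h2 := Submodule.finrank_le (Submodule.span (ZMod p) ({u} : Set V))
    omega
  have hv' : v ∈ Submodule.span (ZMod p) {u} := by rw [hspan]; trivial
  obtain ⟨a, rfl⟩ := Submodule.mem_span_singleton.1 hv'
  simp [hxu]

end Linear

section Act

variable {p : ℕ} [hp : Fact p.Prime] {H : Type*} [Group H] {V : Type*} [AddCommGroup V]
  [Module (ZMod p) V]

/-- The additive map on `V` induced by an automorphism of `H`. -/
noncomputable def addAct (π : H →* Multiplicative V) (hπ : Function.Surjective π)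
    (hker : π.ker = frattini H) (α : MulAut H) : V →+ V :=
  AddMonoidHom.toMultiplicative.symm
    (MonoidHom.liftOfRightInverse π (Function.surjInv hπ) (Function.rightInverse_surjInv hπ)
      ⟨π.comp α.toMonoidHom, by
        intro x hx
        rw [hker] at hx
        rw [MonoidHom.mem_ker]
        have : (α x) ∈ frattini H := ActionFrattini.char_mem (frattini H) α |>.2 hx
        rw [← hker, MonoidHom.mem_ker] at this
        exact this⟩)

theorem addAct_apply (π : H →* Multiplicative V) (hπ : Function.Surjective π)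
    (hker : π.ker = frattini H) (α : MulAut H) (h : H) :
    addAct π hπ hker α (Multiplicative.toAdd (π h)) = Multiplicative.toAdd (π (α h)) := by
  have h1 := MonoidHom.liftOfRightInverse_comp_apply π (Function.surjInv hπ)
    (Function.rightInverse_surjInv hπ)
    (⟨π.comp α.toMonoidHom, by
        intro x hx
        rw [hker] at hx
        rw [MonoidHom.mem_ker]
        have : (α x) ∈ frattini H := ActionFrattini.char_mem (frattini H) α |>.2 hx
        rw [← hker, MonoidHom.mem_ker] at this
        exact this⟩ : {g : H →* Multiplicative V // π.ker ≤ g.ker}) h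
  exact congrArg Multiplicative.toAdd h1

theorem addAct_surj_ext (π : H →* Multiplicative V) (hπ : Function.Surjective π) {f g : V → V}
    (h : ∀ x : H, f (Multiplicative.toAdd (π x)) = g (Multiplicative.toAdd (π x))) : f = g := by
  funext v
  obtain ⟨x, hx⟩ := hπ (Multiplicative.ofAdd v)
  have : v = Multiplicative.toAdd (π x) := by rw [hx]; rfl
  rw [this]
  exact h x

/-- The action of `Aut(H)` on the Frattini quotient as a linear representation. -/
noncomputable def frattGL (π : H →* Multiplicative V) (hπ : Function.Surjective π)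
    (hker : π.ker = frattini H) : MulAut H →* (V ≃ₗ[ZMod p] V) :=
  MonoidHom.mk' (fun α =>
    LinearEquiv.ofLinear ((addAct π hπ hker α).toZModLinearMap p)
      ((addAct π hπ hker α⁻¹).toZModLinearMap p)
      (by
        apply LinearMap.ext
        intro v
        have := congrFun (addAct_surj_ext π hπ
          (f := fun v => addAct π hπ hker α (addAct π hπ hker α⁻¹ v)) (g := fun v => v)
          (fun x => by
            simp only [addAct_apply]
            simp)) v
        exact this)
      (by
        apply LinearMap.ext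
        intro v
        have := congrFun (addAct_surj_ext π hπ
          (f := fun v => addAct π hπ hker α⁻¹ (addAct π hπ hker α v)) (g := fun v => v)
          (fun x => by
            simp only [addAct_apply]
            simp)) v
        exact this))
    (by
      intro α β
      ext v
      have := congrFun (addAct_surj_ext π hπ
          (f := fun v => addAct π hπ hker (α * β) v)
          (g := fun v => addAct π hπ hker α (addAct π hπ hker β v))
          (fun x => by
            simp only [addAct_apply]
            rfl)) v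
      exact this)

@[simp] theorem frattGL_apply (π : H →* Multiplicative V) (hπ : Function.Surjective π)
    (hker : π.ker = frattini H) (α : MulAut H) (h : H) :
    frattGL (p := p) π hπ hker α (Multiplicative.toAdd (π h)) = Multiplicative.toAdd (π (α h)) :=
  addAct_apply π hπ hker α h

theorem frattGL_eq_neg_iff (π : H →* Multiplicative V) (hπ : Function.Surjective π)
    (hker : π.ker = frattini H) (α : MulAut H) :
    frattGL (p := p) π hπ hker α = LinearEquiv.neg (ZMod p) ↔ ∀ h, π (α h) = (π h)⁻¹ := by
  constructor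
  · intro he h
    have h1 := frattGL_apply (p := p) π hπ hker α h
    rw [he] at h1
    have h2 : (- Multiplicative.toAdd (π h)) = Multiplicative.toAdd (π (α h)) := h1
    apply Multiplicative.toAdd.injective
    rw [← h2]
    rfl
  · intro he
    ext v
    have := congrFun (addAct_surj_ext π hπ
          (f := fun v => frattGL (p := p) π hπ hker α v)
          (g := fun v => LinearEquiv.neg (ZMod p) v)
          (fun x => by
            rw [frattGL_apply, he x]
            rfl)) v
    exact this

theorem frattGL_eq_one_iff (π : H →* Multiplicative V) (hπ : Function.Surjective π)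
    (hker : π.ker = frattini H) (α : MulAut H) :
    frattGL (p := p) π hπ hker α = 1 ↔ ∀ h, π (α h) = π h := by
  constructor
  · intro he h
    have h1 := frattGL_apply (p := p) π hπ hker α h
    rw [he] at h1
    apply Multiplicative.toAdd.injective
    exact h1.symm
  · intro he
    ext v
    have := congrFun (addAct_surj_ext π hπ
          (f := fun v => frattGL (p := p) π hπ hker α v)
          (g := fun v => (1 : V ≃ₗ[ZMod p] V) v)
          (fun x => by
            rw [frattGL_apply, he x]
            rfl)) v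
    exact this

variable [Finite H]

/-- **Burnside**: the kernel of the action on the Frattini quotient is a `p`-group. -/
theorem isPGroup_ker_frattGL (hH : IsPGroup p H) (π : H →* Multiplicative V)
    (hπ : Function.Surjective π) (hker : π.ker = frattini H) :
    IsPGroup p (frattGL (p := p) π hπ hker).ker := by
  classical
  obtain ⟨n, hn⟩ := IsPGroup.iff_card.1 hH
  have hidx : ∃ r, (frattini H).index = p ^ r := by
    have h1 : (frattini H).index ∣ p ^ n := by
      rw [← hn]
      exact Subgroup.index_dvd_card _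
    obtain ⟨r, -, hr⟩ := (Nat.dvd_prime_pow hp.out).1 h1
    exact ⟨r, hr⟩
  obtain ⟨r, hr⟩ := hidx
  obtain ⟨g, hg⟩ := FrattiniBasis.exists_generating_tuple hH hr
  -- the set of tuples congruent to `g`
  let X : Set (Fin r → H) := {y | ∀ i, π (y i) = π (g i)}
  have hinv : ∀ α ∈ (frattGL (p := p) π hπ hker).ker, ∀ y ∈ X, (fun i => α (y i)) ∈ X := by
    intro α hα y hy i
    rw [← hy i]
    exact ((frattGL_eq_one_iff π hπ hker α).1 hα) (y i)
  have hgen : ∀ y ∈ X, Subgroup.closure (Set.range y) = ⊤ := by
    intro y hy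
    apply frattini_nongenerating
    rw [eq_top_iff]
    have hle : Subgroup.closure (Set.range g) ≤ Subgroup.closure (Set.range y) ⊔ frattini H := by
      rw [Subgroup.closure_le]
      rintro _ ⟨i, rfl⟩
      have h1 : (y i)⁻¹ * g i ∈ frattini H := by
        rw [← hker, MonoidHom.mem_ker, map_mul, map_inv, hy i, inv_mul_cancel]
      have h2 : g i = y i * ((y i)⁻¹ * g i) := by group
      rw [h2]
      exact mul_mem (Subgroup.mem_sup_left (Subgroup.subset_closure ⟨i, rfl⟩))
        (Subgroup.mem_sup_right h1)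
    rwa [hg] at hle
  have hdvd := FrattiniBasis.card_subgroup_dvd_of_tuples _ X hinv hgen
  -- `|X|` is a power of `p`
  have hcardX : Nat.card X = (Nat.card (frattini H)) ^ r := by
    have e : X ≃ (Fin r → frattini H) :=
      { toFun := fun y i => ⟨(g i)⁻¹ * y.1 i, by
          rw [← hker, MonoidHom.mem_ker, map_mul, map_inv, y.2 i, inv_mul_cancel]⟩
        invFun := fun z => ⟨fun i => g i * z i, fun i => by
          have hz : π (z i : H) = 1 := by
            have h2 : (z i : H) ∈ π.ker := by
              rw [hker]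
              exact (z i).2
            exact h2
          rw [map_mul, hz, mul_one]⟩
        left_inv := fun y => by
          apply Subtype.ext
          funext i
          simp
        right_inv := fun z => by
          funext i
          apply Subtype.ext
          simp }
    rw [Nat.card_congr e, Nat.card_fun, Nat.card_fin]
  have hcardΦ : ∃ m, Nat.card (frattini H) = p ^ m := by
    have h1 : Nat.card (frattini H) ∣ p ^ n := by
      rw [← hn]
      exact Subgroup.card_subgroup_dvd_card _
    obtain ⟨m, -, hm⟩ := (Nat.dvd_prime_pow hp.out).1 h1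
    exact ⟨m, hm⟩
  obtain ⟨m, hm⟩ := hcardΦ
  rw [hcardX, hm, ← pow_mul] at hdvd
  obtain ⟨k, -, hk⟩ := (Nat.dvd_prime_pow hp.out).1 hdvd
  exact IsPGroup.of_card hk

/-- An automorphism trivial on the Frattini quotient, of order prime to `p`, is trivial. -/
theorem eq_one_of_frattGL_eq_one (hH : IsPGroup p H) (π : H →* Multiplicative V)
    (hπ : Function.Surjective π) (hker : π.ker = frattini H) {α : MulAut H}
    (hα : frattGL (p := p) π hπ hker α = 1) {m : ℕ} (hm : α ^ m = 1) (hc : m.Coprime p) : α = 1 := by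
  obtain ⟨k, hk⟩ := isPGroup_ker_frattGL hH π hπ hker ⟨α, hα⟩
  have h1 : α ^ p ^ k = 1 := congrArg Subtype.val hk
  have h2 : orderOf α ∣ 1 := by
    have h3 : orderOf α ∣ Nat.gcd m (p ^ k) :=
      Nat.dvd_gcd (orderOf_dvd_of_pow_eq_one hm) (orderOf_dvd_of_pow_eq_one h1)
    rwa [Nat.Coprime.pow_right k hc] at h3
  exact orderOf_eq_one_iff.1 (Nat.dvd_one.1 h2)

/-- The rank bound for metacyclic groups. -/
theorem finrank_le_two_of_metacyclic [Finite V] (hm : Cfsg.IsMetacyclic H) (π : H →* Multiplicative V)
    (hπ : Function.Surjective π) (hker : π.ker = frattini H) :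
    Module.finrank (ZMod p) V ≤ 2 := by
  classical
  haveI : Module.Finite (ZMod p) V := Module.Finite.of_finite
  obtain ⟨N, hN, hc, hq⟩ := hm
  obtain ⟨a, ha⟩ := hc.exists_generator
  obtain ⟨bq, hb⟩ := hq.exists_generator
  obtain ⟨b, rfl⟩ := QuotientGroup.mk_surjective bq
  let T : Finset V := {Multiplicative.toAdd (π a), Multiplicative.toAdd (π b)}
  have hmem : ∀ h : H, Multiplicative.toAdd (π h) ∈ Submodule.span (ZMod p) (T : Set V) := by
    intro h
    obtain ⟨i, hi⟩ := Subgroup.mem_zpowers_iff.1 (hb (h : H ⧸ N))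
    have h1 : (b ^ i)⁻¹ * h ∈ N := by
      rw [← QuotientGroup.eq]
      rw [← hi]
      simp
    obtain ⟨j, hj⟩ := Subgroup.mem_zpowers_iff.1 (ha ⟨_, h1⟩)
    have h2 : h = b ^ i * (a : H) ^ j := by
      have h3 : ((a ^ j : N) : H) = (b ^ i)⁻¹ * h := congrArg Subtype.val hj
      rw [Subgroup.coe_zpow] at h3
      rw [h3]
      group
    rw [h2, map_mul, map_zpow, map_zpow, toAdd_mul, toAdd_zpow, toAdd_zpow]
    apply Submodule.add_mem
    · exact Submodule.smul_of_tower_mem _ _ (Submodule.subset_span (by simp [T]))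
    · exact Submodule.smul_of_tower_mem _ _ (Submodule.subset_span (by simp [T]))
  have htop : Submodule.span (ZMod p) (T : Set V) = ⊤ := by
    rw [eq_top_iff]
    intro v _
    obtain ⟨x, hx⟩ := hπ (Multiplicative.ofAdd v)
    have : v = Multiplicative.toAdd (π x) := by rw [hx]; rfl
    rw [this]
    exact hmem x
  have h1 := finrank_span_finset_le_card (R := ZMod p) T
  rw [Set.finrank, htop, finrank_top] at h1
  refine h1.trans ?_
  exact Finset.card_le_two

end Act

end Cfsg.Agent.Lib.Fusion.Resist.GL
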