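/-
Generalities on essential subgroups: normal `p`-subgroups of `Aut_F(Q)`, restriction of automorphisms to a
strongly closed piece, the Frattini argument for central images, and the extension to `N_S(Q)`.
-/
import Mathlib
import Cfsg.Agent.Lib.Fusion.Essential
import Cfsg.Agent.Lib.Fusion.Saturated2
import Cfsg.Agent.Lib.Fusion.Chain
import Cfsg.Agent.Lib.Fusion.NormalCR
import Cfsg.Agent.Lib.Basic.StrongP

set_option autoImplicit false
set_option linter.style.haveILetI false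
set_option linter.unusedSectionVars false

namespace Cfsg.Agent.Lib.Fusion.Resist.Local

open Cfsg Cfsg.FusionSystem Cfsg.Agent.Lib.Fusion.Basic Cfsg.Agent.Lib.Fusion.Saturated
  Cfsg.Agent.Lib.Fusion.Saturated2

section Frattini

variable {A : Type*} [Group A] [Finite A] {p : ℕ} [hp : Fact p.Prime] {Y : Type*} [Group Y]

/-- The Frattini argument for an element with central image: if `f z` commutes with the image of `f`, then
`f z` is the image of an element normalizing a given Sylow subgroup. -/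
theorem exists_mem_normalizer_of_central (W : Sylow p A) (f : A →* Y) (z : A)
    (hz : ∀ a, f z * f a = f a * f z) :
    ∃ e ∈ Subgroup.normalizer ((W : Subgroup A) : Set A), f e = f z := by
  classical
  let B : Subgroup A := (W : Subgroup A) ⊔ f.ker
  have hWB : (W : Subgroup A) ≤ B := le_sup_left
  -- the conjugate of `W` by `z`
  let W' : Sylow p A := z • W
  have hW'mem : ∀ x, x ∈ (W' : Subgroup A) ↔ z⁻¹ * x * z ∈ (W : Subgroup A) :=
    fun x => Cfsg.Agent.Lib.Basic.StrongP.mem_smul_sylow z W x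
  have hW'B : (W' : Subgroup A) ≤ B := by
    intro x hx
    have hx' : z⁻¹ * x * z ∈ (W : Subgroup A) := (hW'mem x).1 hx
    have h2 : x * (z⁻¹ * x * z)⁻¹ ∈ f.ker := by
      rw [MonoidHom.mem_ker, map_mul, map_inv, map_mul, map_mul, map_inv, mul_assoc (f z)⁻¹,
        ← hz x, ← mul_assoc, inv_mul_cancel, one_mul, mul_inv_cancel]
    have h3 : x = (x * (z⁻¹ * x * z)⁻¹) * (z⁻¹ * x * z) := by group
    rw [h3]
    exact mul_mem (Subgroup.mem_sup_right h2) (Subgroup.mem_sup_left hx')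
  obtain ⟨b, hb⟩ := MulAction.exists_smul_eq B (W'.subtype hW'B) (W.subtype hWB)
  -- so `b z` normalizes `W`
  have hbz : ∀ x, x ∈ (W : Subgroup A) → (b : A) * z * x * ((b : A) * z)⁻¹ ∈ (W : Subgroup A) := by
    intro x hx
    have h0 : z * x * z⁻¹ ∈ (W' : Subgroup A) := by
      rw [hW'mem]
      simpa [mul_assoc] using hx
    let y : B := ⟨z * x * z⁻¹, hW'B h0⟩
    have h1 : y ∈ ((W'.subtype hW'B : Sylow p B) : Subgroup B) := by
      rw [Sylow.coe_subtype, Subgroup.mem_subgroupOf]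
      exact h0
    have h2 : b * y * b⁻¹ ∈ ((W.subtype hWB : Sylow p B) : Subgroup B) := by
      rw [← hb, Cfsg.Agent.Lib.Basic.StrongP.mem_smul_sylow]
      simpa [mul_assoc] using h1
    rw [Sylow.coe_subtype, Subgroup.mem_subgroupOf] at h2
    have h3 : (b : A) * z * x * ((b : A) * z)⁻¹ = (b : A) * (z * x * z⁻¹) * (b : A)⁻¹ := by group
    rw [h3]
    exact h2
  have hnorm : (b : A) * z ∈ Subgroup.normalizer ((W : Subgroup A) : Set A) := by
    rw [Subgroup.mem_normalizer_iff]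
    intro x
    constructor
    · exact hbz x
    · intro hx
      -- finiteness
      have hle : ((W : Subgroup A).map (MulAut.conj ((b : A) * z)).toMonoidHom) ≤ (W : Subgroup A) := by
        rintro _ ⟨y, hy, rfl⟩
        exact hbz y hy
      have hcard : Nat.card ((W : Subgroup A).map (MulAut.conj ((b : A) * z)).toMonoidHom) =
          Nat.card (W : Subgroup A) :=
        Nat.card_congr (Subgroup.equivMapOfInjective _ _
          (MulAut.conj ((b : A) * z)).injective).symm.toEquiv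
      have heq := Subgroup.eq_of_le_of_card_ge hle hcard.ge
      rw [← heq] at hx
      obtain ⟨y, hy, hyx⟩ := hx
      have : y = x := by
        have h5 : (b : A) * z * y * ((b : A) * z)⁻¹ = (b : A) * z * x * ((b : A) * z)⁻¹ := hyx
        exact mul_left_cancel (mul_right_cancel h5)
      rwa [← this]
  -- decomposing `b`
  have hB : ∃ w ∈ (W : Subgroup A), ∃ d ∈ f.ker, w * d = (b : A) := by
    have h1 := Subgroup.mul_normal (W : Subgroup A) f.ker
    have h2 : (b : A) ∈ ((((W : Subgroup A) ⊔ f.ker : Subgroup A)) : Set A) := b.2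
    rw [h1] at h2
    obtain ⟨w, hw, d, hd, hwd⟩ := Set.mem_mul.1 h2
    exact ⟨w, hw, d, hd, hwd⟩
  obtain ⟨w, hw, d, hd, hwd⟩ := hB
  refine ⟨w⁻¹ * ((b : A) * z), ?_, ?_⟩
  · apply mul_mem _ hnorm
    exact inv_mem (Subgroup.le_normalizer hw)
  · rw [map_mul, map_mul, map_inv, ← hwd, map_mul, MonoidHom.mem_ker.1 hd, mul_one, inv_mul_cancel_left]

end Frattini

section Fusion

variable {Ω : Type*} [Group Ω] {S : Subgroup Ω} [Finite S] {p : ℕ} [hp : Fact p.Prime]
  {F : FusionSystem S} {Q : Subgroup Ω}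

/-- A normal `p`-subgroup of `Aut_F(Q)`, `Q` essential, consists of inner automorphisms. -/
theorem mem_inn_of_normal_of_essential (hE : F.IsEssential p Q) {N : Subgroup (F.autGroup Q)}
    (hN : N.Normal) (hNp : IsPGroup p N) {β : F.autGroup Q} (hβ : β ∈ N) :
    (β : MulAut Q) ∈ Inn Q := by
  classical
  obtain ⟨hcent, -, hnn, E₀, hE₀⟩ := hE
  have hQS : Q ≤ S := hcent.1
  haveI := finite_autGroup (F := F) hQS
  haveI := hnn
  let mk := QuotientGroup.mk' ((Inn Q).subgroupOf (F.autGroup Q))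
  let M : Subgroup (F.autGroup Q ⧸ (Inn Q).subgroupOf (F.autGroup Q)) := N.map mk
  haveI hMn : M.Normal := hN.map mk (QuotientGroup.mk'_surjective _)
  have hMp : IsPGroup p M := hNp.map mk
  by_cases hM : M = ⊥
  · have h1 : mk β ∈ M := ⟨β, hβ, rfl⟩
    rw [hM, Subgroup.mem_bot] at h1
    exact (QuotientGroup.eq_one_iff (N := (Inn Q).subgroupOf (F.autGroup Q)) β).1 h1
  · exfalso
    obtain ⟨P, hPE, -, -⟩ := Cfsg.Agent.Lib.Basic.StrongP.exists_sylow hE₀
    have hsup : IsPGroup p (M ⊔ (P : Subgroup _) : Subgroup _) :=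
      hMp.to_sup_of_normal_left P.isPGroup'
    have heq := P.is_maximal' hsup le_sup_right
    have hMP : M ≤ (P : Subgroup _) := by
      rw [← heq]
      exact le_sup_left
    have h2 := Cfsg.Agent.Lib.Basic.StrongP.normalizer_le hE₀ (hMP.trans hPE) hMp hM
    rw [Subgroup.normalizer_eq_top_iff.2 hMn] at h2
    exact Cfsg.Agent.Lib.Basic.StrongP.ne_top hE₀ (top_le_iff.1 h2)

omit [Finite S] in
/-- Restriction of `Aut_F(Q)` to the intersection of `Q` with a strongly closed subgroup. -/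
noncomputable def resHom {P : Subgroup Ω} (hP : F.StronglyClosed P) (hQS : Q ≤ S) :
    F.autGroup Q →* MulAut ↥(P ⊓ Q) :=
  MonoidHom.mk' (fun α =>
    { toFun := fun r => ⟨(α.1 ⟨r, r.2.2⟩ : Q), Chain.StronglyClosed.aut_mem hP hQS α.2 _ r.2.1,
        (α.1 ⟨r, r.2.2⟩).2⟩
      invFun := fun r => ⟨((α⁻¹).1 ⟨r, r.2.2⟩ : Q),
        Chain.StronglyClosed.aut_mem hP hQS (α⁻¹).2 _ r.2.1, ((α⁻¹).1 ⟨r, r.2.2⟩).2⟩
      left_inv := fun r => by
        apply Subtype.ext
        show (((α⁻¹).1 (α.1 ⟨r, r.2.2⟩) : Q) : Ω) = r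
        have : (α⁻¹).1 = α.1⁻¹ := rfl
        rw [this]
        simp
      right_inv := fun r => by
        apply Subtype.ext
        show ((α.1 ((α⁻¹).1 ⟨r, r.2.2⟩) : Q) : Ω) = r
        have : (α⁻¹).1 = α.1⁻¹ := rfl
        rw [this]
        simp
      map_mul' := fun x y => by
        apply Subtype.ext
        show ((α.1 (⟨x, x.2.2⟩ * ⟨y, y.2.2⟩) : Q) : Ω) = _
        rw [map_mul]
        rfl })
    (fun α β => by
      ext r
      rfl)

omit [Finite S] in
@[simp] theorem resHom_coe {P : Subgroup Ω} (hP : F.StronglyClosed P) (hQS : Q ≤ S)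
    (α : F.autGroup Q) (r : ↥(P ⊓ Q)) :
    ((resHom hP hQS α r : ↥(P ⊓ Q)) : Ω) = (α.1 ⟨r, r.2.2⟩ : Q) := rfl

/-- An automorphism of a fully normalized `Q` normalizing `Aut_S(Q)` extends to `N_S(Q)`. -/
theorem exists_hom_normalizerIn (hS : IsPGroup p S) (hF : F.IsSaturated p)
    (hQn : F.IsFullyNormalized Q) (T₀ : Sylow p (F.autGroup Q))
    (hT₀ : (T₀ : Subgroup (F.autGroup Q)) = (autInducedBy S Q).subgroupOf (F.autGroup Q))
    {e : F.autGroup Q} (he : e ∈ Subgroup.normalizer ((T₀ : Subgroup (F.autGroup Q)) : Set (F.autGroup Q))) :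
    ∃ ψ ∈ F.Hom (normalizerIn S Q), (∀ x : Q, ψ ⟨x, le_normalizerIn hQn.1 x.2⟩ = (e.1 x : Q)) ∧
      ∀ x : normalizerIn S Q, ψ x ∈ normalizerIn S Q := by
  classical
  have hQS : Q ≤ S := hQn.1
  have hQr : F.IsReceptive Q := fullyNormalized_receptive hS hF hQn
  have hφ : Q.subtype.comp e.1.toMonoidHom ∈ F.Hom Q := autGroup_mem_hom hQS e.2
  have hr : (Q.subtype.comp e.1.toMonoidHom).range = Q := by
    ext y
    constructor
    · rintro ⟨x, rfl⟩
      exact (e.1 x).2
    · intro hy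
      exact ⟨e.1⁻¹ ⟨y, hy⟩, by simp⟩
  obtain ⟨ψ, hψ, hext⟩ := hQr.2 Q _ hφ hr
  have hle : normalizerIn S Q ≤ extender S Q (Q.subtype.comp e.1.toMonoidHom) := by
    rintro g ⟨hgS, hgN⟩
    have hτS : normConj g hgN ∈ autInducedBy S Q := normConj_mem_autInducedBy hgS hgN
    have hτA : normConj g hgN ∈ F.autGroup Q := autInducedBy_le_autGroup hQS hτS
    have hτT : (⟨_, hτA⟩ : F.autGroup Q) ∈ (T₀ : Subgroup (F.autGroup Q)) := by
      rw [hT₀]
      exact hτS
    have h1 := (Subgroup.mem_normalizer_iff.1 he _).1 hτT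
    rw [hT₀, Subgroup.mem_subgroupOf] at h1
    obtain ⟨h, hh, hc⟩ := mem_autInducedBy_iff.1 h1
    refine extender_closure_mem hgS hgN hh (fun x hx => ?_)
    have h2 := hc (e.1 x)
    have h3 : ((e * ⟨_, hτA⟩ * e⁻¹ : F.autGroup Q) : MulAut Q) (e.1 x) = e.1 (normConj g hgN x) := by
      show e.1 (normConj g hgN (e.1⁻¹ (e.1 x))) = _
      simp
    rw [h3] at h2
    exact h2
  have hle' : normalizerIn S Q ≤ extender S Q (Q.subtype.comp e.1.toMonoidHom) := hle
  let ψ' : normalizerIn S Q →* Ω := ψ.comp (Subgroup.inclusion hle')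
  have hψ' : ψ' ∈ F.Hom (normalizerIn S Q) := res_mem hψ hle'
  have hagree : ∀ x : Q, ψ' ⟨x, le_normalizerIn hQS x.2⟩ = (e.1 x : Q) := by
    intro x
    exact hext x x.2 (hle' (le_normalizerIn hQS x.2))
  refine ⟨ψ', hψ', hagree, ?_⟩
  intro x
  refine ⟨map_mem_S hψ' x, ?_⟩
  have hmap : (Q.subgroupOf (normalizerIn S Q)).map ψ' = Q := by
    ext y
    constructor
    · rintro ⟨z, hz, rfl⟩
      have := hagree ⟨z, hz⟩
      have h5 : ψ' z = (e.1 ⟨z, hz⟩ : Q) := this
      show ψ' z ∈ Q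
      rw [h5]
      exact (e.1 _).2
    · intro hy
      refine ⟨⟨(e.1⁻¹ ⟨y, hy⟩ : Q), le_normalizerIn hQS (e.1⁻¹ ⟨y, hy⟩).2⟩, ?_, ?_⟩
      · exact (e.1⁻¹ ⟨y, hy⟩).2
      · have h6 := hagree (e.1⁻¹ ⟨y, hy⟩)
        show ψ' _ = y
        rw [h6]
        simp
  exact map_mem_normalizer hmap x x.2.2

end Fusion

end Cfsg.Agent.Lib.Fusion.Resist.Local
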