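/-
Metacyclic `2`-groups: a metacyclic `2`-group containing a dihedral or quaternion subgroup of order `8` is dihedral,
semidihedral or generalized quaternion.
-/
import Mathlib
import Cfsg.Prelude.Def_CaseTheorems
import Cfsg.Prelude.Def_OddOrderLocal
import Cfsg.Agent.Lib.PGroup.CyclicMax
import Cfsg.Agent.Lib.PGroup.CyclicMax2

set_option autoImplicit false
set_option linter.style.haveILetI false
set_option linter.unusedSectionVars false

namespace Cfsg.Agent.Lib.Fusion.Resist.TwoStruct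

open Cfsg.Agent.Lib.PGroup.CyclicMax Cfsg.Agent.Lib.PGroup.CyclicMax2 Subgroup

variable {G : Type*} [Group G]

theorem comm_of_isCyclic {C : Type*} [Group C] (hc : IsCyclic C) (a b : C) : a * b = b * a :=
  (IsCyclic.isMulCommutative (α := C)).is_comm.comm a b

/-- In a cyclic group, two elements of square one differ by a trivial factor. -/
theorem sq_cases_of_isCyclic {C : Type*} [Group C] [Finite C] (hc : IsCyclic C) {a b : C} (ha : a ^ 2 = 1)
    (hb : b ^ 2 = 1) : a = 1 ∨ b = 1 ∨ a = b := by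
  classical
  haveI := Fintype.ofFinite C
  by_contra hcon
  push Not at hcon
  obtain ⟨ha1, hb1, hab⟩ := hcon
  have h1 := IsCyclic.card_pow_eq_one_le (α := C) (n := 2) (by norm_num)
  have h2 : ({1, a, b} : Finset C) ⊆ Finset.univ.filter (fun x : C => x ^ 2 = 1) := by
    intro x hx
    simp only [Finset.mem_insert, Finset.mem_singleton] at hx
    rcases hx with rfl | rfl | rfl <;> simp [ha, hb]
  have h3 := Finset.card_le_card h2
  have h4 : ({1, a, b} : Finset C).card = 3 := by
    rw [Finset.card_insert_of_notMem, Finset.card_insert_of_notMem, Finset.card_singleton]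
    · simpa using hab
    · simp only [Finset.mem_insert, Finset.mem_singleton, not_or]
      exact ⟨Ne.symm ha1, Ne.symm hb1⟩
  omega

/-- The data: an element of order `4` of `N` inverted by `y ∉ N` with `y² ∈ N`, forces `|G : N| = 2`. -/
theorem index_eq_two [Finite G] (hG : IsPGroup 2 G) (N : Subgroup G) [hN : N.Normal] (hc : IsCyclic N)
    (hq : IsCyclic (G ⧸ N)) {x y : G} (hxN : x ∈ N) (hx : orderOf x = 4) (hy : y * x * y⁻¹ = x⁻¹)
    (hy2 : y ^ 2 ∈ N) : N.index = 2 := by
  classical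
  have hx2 : x ^ 2 ≠ 1 := pow_ne_one_of_lt_orderOf (by norm_num) (by omega)
  have hxinv : x⁻¹ ≠ x := by
    intro h
    apply hx2
    rw [pow_two]
    nth_rewrite 1 [← h]
    exact inv_mul_cancel x
  -- action on `⟨x⟩`: every element acts as an odd power
  have hact : ∀ g : G, g * x * g⁻¹ = x ∨ g * x * g⁻¹ = x⁻¹ := by
    intro g
    classical
    have h1 : g * x * g⁻¹ ∈ N := hN.conj_mem x hxN g
    haveI := Fintype.ofFinite N
    let x' : N := ⟨x, hxN⟩
    let y' : N := ⟨g * x * g⁻¹, h1⟩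
    have hx4 : x ^ 4 = 1 := by rw [← hx]; exact pow_orderOf_eq_one x
    have hx'o : orderOf x' = 4 := by
      rw [← hx]
      exact Subgroup.orderOf_mk _ _
    have hy4 : y' ^ 4 = 1 := by
      apply Subtype.ext
      show (g * x * g⁻¹) ^ 4 = 1
      rw [conj_pow, hx4, mul_one, mul_inv_cancel]
    let T : Finset N := Finset.image (fun i : Fin 4 => x' ^ (i : ℕ)) Finset.univ
    have hT : T.card = 4 := by
      rw [Finset.card_image_of_injective]
      · simp
      · intro i j hij
        have h2 := pow_injOn_Iio_orderOf (x := x')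
        have h3 : (i : ℕ) = j := h2 (by simp [hx'o]) (by simp [hx'o]) hij
        exact Fin.ext h3
    have hTsub : T ⊆ Finset.univ.filter (fun a : N => a ^ 4 = 1) := by
      intro a ha
      obtain ⟨i, -, rfl⟩ := Finset.mem_image.1 ha
      simp only [Finset.mem_filter, Finset.mem_univ, true_and]
      have hx'4 : x' ^ 4 = 1 := by
        have := pow_orderOf_eq_one x'
        rwa [hx'o] at this
      rw [← pow_mul, mul_comm, pow_mul, hx'4, one_pow]
    have hle := IsCyclic.card_pow_eq_one_le (α := N) (n := 4) (by norm_num)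
    have heq := Finset.eq_of_subset_of_card_le hTsub (by rw [hT]; exact hle)
    have hy'T : y' ∈ T := by
      rw [heq]
      simp [hy4]
    obtain ⟨i, -, hi⟩ := Finset.mem_image.1 hy'T
    have hval : g * x * g⁻¹ = x ^ (i : ℕ) := by
      have := congrArg Subtype.val hi
      simpa [x', y'] using this.symm
    have hx1 : x ≠ 1 := by
      rintro rfl
      rw [orderOf_one] at hx
      omega
    fin_cases i
    · exfalso
      simp only [pow_zero] at hval
      apply hx1
      have h9 : g * x * g⁻¹ = g * 1 * g⁻¹ := by rw [hval]; group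
      exact mul_left_cancel (mul_right_cancel h9)
    · left
      simpa using hval
    · exfalso
      have hval2 : g * x * g⁻¹ = x ^ 2 := by simpa using hval
      apply hx2
      have h9 : (g * x * g⁻¹) ^ 2 = 1 := by
        rw [hval2, ← pow_mul, hx4]
      rw [conj_pow] at h9
      have h10 : g * x ^ 2 * g⁻¹ = g * 1 * g⁻¹ := by rw [h9]; group
      exact mul_left_cancel (mul_right_cancel h10)
    · right
      have hval3 : g * x * g⁻¹ = x ^ 3 := by simpa using hval
      rw [hval3]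
      apply eq_inv_of_mul_eq_one_left
      rw [← pow_succ, hx4]
  -- a generator of the quotient
  obtain ⟨bq, hb⟩ := hq.exists_generator
  obtain ⟨b, rfl⟩ := QuotientGroup.mk_surjective bq
  obtain ⟨k, hk⟩ := mem_zpowers_iff.1 (hb (y : G ⧸ N))
  have hN' : (b ^ k)⁻¹ * y ∈ N := by
    rw [← QuotientGroup.eq, ← hk]
    simp
  set n := (b ^ k)⁻¹ * y with hn
  have hyeq : y = b ^ k * n := by rw [hn]; group
  -- `n` commutes with `x`
  have hcomm_N : ∀ a ∈ N, a * x = x * a := by
    intro a ha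
    have hab := comm_of_isCyclic hc ⟨a, ha⟩ ⟨x, hxN⟩
    exact congrArg Subtype.val hab
  have hnx : n * x * n⁻¹ = x := by
    rw [hcomm_N n hN', mul_inv_cancel_right]
  -- so `k` is odd
  have hbk : b ^ k * x * (b ^ k)⁻¹ = x⁻¹ := by
    rw [← hy, hyeq, mul_inv_rev]
    have : b ^ k * n * x * (n⁻¹ * (b ^ k)⁻¹) = b ^ k * (n * x * n⁻¹) * (b ^ k)⁻¹ := by group
    rw [this, hnx]
  have hodd : ¬ (2 : ℤ) ∣ k := by
    rintro ⟨j, rfl⟩
    have h2b : b ^ (2 : ℤ) * x * (b ^ (2 : ℤ))⁻¹ = x := by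
      rcases hact b with h | h
      · have : b ^ (2 : ℤ) * x * (b ^ (2 : ℤ))⁻¹ = b * (b * x * b⁻¹) * b⁻¹ := by
          simp only [zpow_two]; group
        rw [this, h, h]
      · have : b ^ (2 : ℤ) * x * (b ^ (2 : ℤ))⁻¹ = b * (b * x * b⁻¹) * b⁻¹ := by
          simp only [zpow_two]; group
        rw [this, h]
        have h3 : b * x⁻¹ * b⁻¹ = (b * x * b⁻¹)⁻¹ := by group
        rw [h3, h, inv_inv]
    have h3 : ∀ j : ℤ, (b ^ (2 : ℤ)) ^ j * x * ((b ^ (2 : ℤ)) ^ j)⁻¹ = x := by
      intro j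
      have hcomm : Commute (b ^ (2 : ℤ)) x := by
        rw [commute_iff_eq]
        exact mul_inv_eq_iff_eq_mul.1 h2b
      have := (hcomm.zpow_left j).eq
      rw [this, mul_inv_cancel_right]
    rw [zpow_mul] at hbk
    rw [h3 j] at hbk
    exact hxinv hbk.symm
  -- `b̄` has order dividing two
  have hbord : (b : G ⧸ N) ^ 2 = 1 := by
    have hy2' : ((y : G ⧸ N)) ^ 2 = 1 := by
      rw [← QuotientGroup.mk_pow, QuotientGroup.eq_one_iff]
      exact hy2
    rw [← hk] at hy2'
    -- `(b̄ ^ k) ^ 2 = 1`, `k` odd, and `b̄` is a `2`-element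
    have h1 : (b : G ⧸ N) ^ (2 * k) = 1 := by
      rw [mul_comm, zpow_mul]
      exact_mod_cast hy2'
    have hord := orderOf_dvd_iff_zpow_eq_one.2 h1
    have hGq : IsPGroup 2 (G ⧸ N) := hG.to_quotient N
    obtain ⟨m, hm⟩ := hGq (b : G ⧸ N)
    obtain ⟨j, -, hj⟩ := (Nat.dvd_prime_pow Nat.prime_two).1 (orderOf_dvd_of_pow_eq_one hm)
    have hk_odd : IsCoprime (2 : ℤ) k := by
      rw [Prime.coprime_iff_not_dvd Int.prime_two]
      exact hodd
    have h2 : ((orderOf (b : G ⧸ N) : ℕ) : ℤ) ∣ 2 := by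
      rw [hj] at hord ⊢
      have hcop : IsCoprime ((2 ^ j : ℕ) : ℤ) k := by
        push_cast
        exact hk_odd.pow_left
      exact hcop.dvd_of_dvd_mul_right hord
    have h3 : orderOf (b : G ⧸ N) ∣ 2 := by exact_mod_cast h2
    exact orderOf_dvd_iff_pow_eq_one.1 h3
  -- `y ∉ N`
  have hyN : y ∉ N := by
    intro h
    have := hcomm_N y h
    apply hxinv
    rw [← hy, this, mul_inv_cancel_right]
  -- conclude
  have hcardq : Nat.card (G ⧸ N) = 2 := by
    have hcy : IsCyclic (G ⧸ N) := hq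
    have h1 : Nat.card (G ⧸ N) = orderOf (b : G ⧸ N) := by
      rw [orderOf_eq_card_of_forall_mem_zpowers hb]
    have h2 : orderOf (b : G ⧸ N) ∣ 2 := orderOf_dvd_of_pow_eq_one hbord
    have h3 : orderOf (b : G ⧸ N) ≠ 1 := by
      intro h
      have h4 : (b : G ⧸ N) = 1 := orderOf_eq_one_iff.1 h
      apply hyN
      rw [← QuotientGroup.eq_one_iff]
      rw [← hk, h4, one_zpow]
    rw [h1]
    have := (Nat.dvd_prime Nat.prime_two).1 h2
    tauto
  exact hcardq

/-- **Metacyclic `2`-groups with an inverted element of order four in the normal cyclic subgroup.** -/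
theorem iso_of_index_two [Finite G] (hG : IsPGroup 2 G) (N : Subgroup G) (hN : N.Normal) (hc : IsCyclic N)
    (hidx : N.index = 2) {x y : G} (hxN : x ∈ N) (hx : orderOf x = 4) (hy : y * x * y⁻¹ = x⁻¹) :
    (∃ m, Nonempty (G ≃* DihedralGroup m)) ∨ (∃ m, Nonempty (G ≃* QuaternionGroup m)) ∨
      Cfsg.IsQuasiDihedral G := by
  classical
  obtain ⟨c, hcg⟩ := hc.exists_generator
  have hNc : N = zpowers (c : G) := by
    ext g
    constructor
    · intro hg
      obtain ⟨k, hk⟩ := mem_zpowers_iff.1 (hcg ⟨g, hg⟩)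
      refine mem_zpowers_iff.2 ⟨k, ?_⟩
      have := congrArg Subtype.val hk
      simpa using this
    · intro hg
      obtain ⟨k, rfl⟩ := mem_zpowers_iff.1 hg
      exact zpow_mem c.2 k
  obtain ⟨M, hM⟩ := IsPGroup.iff_card.1 hG
  have hcardN : Nat.card N * 2 = 2 ^ M := by
    rw [← hM, ← hidx]
    exact N.card_mul_index
  have hMpos : 1 ≤ M := by
    rcases M with _ | M
    · simp at hcardN
    · omega
  obtain ⟨n, rfl⟩ : ∃ n, M = n + 1 := ⟨M - 1, by omega⟩
  have hcardN' : Nat.card N = 2 ^ n := by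
    rw [pow_succ] at hcardN
    omega
  have hco : orderOf (c : G) = 2 ^ n := by
    rw [← Nat.card_zpowers, ← hNc, hcardN']
  have hne : (y * x) ≠ (x * y) := by
    intro h
    have h2 : x⁻¹ = x := by
      rw [← hy, h, mul_inv_cancel_right]
    have h3 : x ^ 2 = 1 := by
      rw [pow_two]
      nth_rewrite 1 [← h2]
      exact inv_mul_cancel x
    have := orderOf_dvd_of_pow_eq_one h3
    rw [hx] at this
    omega
  have hSC := sc_of_index hM (c : G) hco ⟨y, x, hne⟩
  have hnet : zpowers (c : G) ≠ ⊤ := by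
    intro h
    rw [← hNc] at h
    rw [h, Subgroup.index_top] at hidx
    omega
  -- `n ≥ 2`
  have hx4 : 4 ∣ 2 ^ n := by
    rw [← hx, ← hcardN']
    have : orderOf (⟨x, hxN⟩ : N) ∣ Nat.card N := orderOf_dvd_natCard _
    rwa [Subgroup.orderOf_mk] at this
  rcases hSC.even_case hnet with ⟨hcard, b, hb, hcase⟩ | ⟨hn3, b, hb, hb2, hbc⟩
  · rcases hcase with ⟨hbc, hb2 | hb2⟩ | ⟨hn3, hbc, hb2⟩
    · left
      exact ⟨_, dihedral_of_data hco hcard hb hbc hb2⟩
    · right; left
      have hn1 : 1 ≤ n := by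
        rcases n with _ | n
        · simp at hx4
        · omega
      exact ⟨_, quaternion_of_data hn1 hco hcard hb hbc hb2⟩
    · right; right
      refine ⟨n, hn3, hcard, c, b, hco, ?_, hbc⟩
      have hb1 : b ≠ 1 := by
        rintro rfl
        exact hb (one_mem _)
      exact orderOf_eq_prime hb2 hb1
  · -- modular case: impossible
    exfalso
    have hxc : x ∈ zpowers (c : G) := by rw [← hNc]; exact hxN
    obtain ⟨w, hw⟩ := SC.exists_nat_pow hxc
    -- `b` centralizes `x`
    have hbx : b * x * b⁻¹ = x := by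
      have h1 : b * x * b⁻¹ = x * x ^ 2 ^ (n - 1) := by
        have h0 : b * x * b⁻¹ = (b * (c : G) * b⁻¹) ^ w := by rw [hw, conj_pow]
        rw [h0, hbc, hw, ← pow_mul, ← pow_mul, ← pow_add]
        congr 1
        ring
      have h2 : x ^ 2 ^ (n - 1) = 1 := by
        obtain ⟨j, rfl⟩ : ∃ j, n = j + 3 := ⟨n - 3, by omega⟩
        have : 2 ^ (j + 3 - 1) = 4 * 2 ^ j * 1 := by
          have : j + 3 - 1 = j + 2 := by omega
          rw [this, pow_add]
          ring
        rw [this, mul_one, pow_mul]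
        rw [show x ^ 4 = 1 by rw [← hx]; exact pow_orderOf_eq_one x, one_pow]
      rw [h1, h2, mul_one]
    -- every element is in `⟨c⟩` or `b ⟨c⟩`
    have hall : ∀ g : G, g * x * g⁻¹ = x := by
      intro g
      have hcomm : ∀ a ∈ N, a * x * a⁻¹ = x := by
        intro a ha
        have hab := comm_of_isCyclic hc ⟨a, ha⟩ ⟨x, hxN⟩
        have := congrArg Subtype.val hab
        rw [show a * x = x * a from this, mul_inv_cancel_right]
      by_cases hg : g ∈ N
      · exact hcomm g hg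
      · -- index two
        have hbN : b ∉ N := by rw [hNc]; exact hb
        have h2 : b⁻¹ * g ∈ N := by
          haveI := hN
          have hq2 : Nat.card (G ⧸ N) = 2 := hidx
          have hbq : (b : G ⧸ N) ≠ 1 := by
            intro h
            exact hbN ((QuotientGroup.eq_one_iff b).1 h)
          have hgq : (g : G ⧸ N) ≠ 1 := by
            intro h
            exact hg ((QuotientGroup.eq_one_iff g).1 h)
          rw [← QuotientGroup.eq]
          -- a group of order two
          have := Nat.card_eq_two_iff.1 hq2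
          obtain ⟨u, v, huv, huniv⟩ := this
          have h1 : (1 : G ⧸ N) ∈ ({u, v} : Set (G ⧸ N)) := by rw [huniv]; trivial
          have h3 : (b : G ⧸ N) ∈ ({u, v} : Set (G ⧸ N)) := by rw [huniv]; trivial
          have h4 : (g : G ⧸ N) ∈ ({u, v} : Set (G ⧸ N)) := by rw [huniv]; trivial
          simp only [Set.mem_insert_iff, Set.mem_singleton_iff] at h1 h3 h4
          rcases h1 with h1 | h1 <;> rcases h3 with h3 | h3 <;> rcases h4 with h4 | h4 <;>
            first
              | (exfalso; apply hbq; rw [h3, ← h1]; done)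
              | (exfalso; apply hgq; rw [h4, ← h1]; done)
              | (rw [h3, h4]; done)
        have h3 : g = b * (b⁻¹ * g) := by group
        rw [h3]
        have h4 := hcomm _ h2
        have : b * (b⁻¹ * g) * x * (b * (b⁻¹ * g))⁻¹ = b * ((b⁻¹ * g) * x * (b⁻¹ * g)⁻¹) * b⁻¹ := by
          group
        rw [this, h4, hbx]
    have h9 := hall y
    rw [hy] at h9
    apply hne
    have h10 : y * x * y⁻¹ = x := by rw [hy]; exact h9
    exact mul_inv_eq_iff_eq_mul.1 h10

/-- Bezout in a cyclic group: `b ^ gcd(α, T)` is a power of `b ^ α` if `b ^ T = 1`. -/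
theorem pow_gcd_mem_zpowers {C : Type*} [Group C] (b : C) (α T : ℕ) (hT : b ^ T = 1) :
    b ^ Nat.gcd α T ∈ zpowers (b ^ α) := by
  refine mem_zpowers_iff.2 ⟨Nat.gcdA α T, ?_⟩
  have h := Nat.gcd_eq_gcd_ab α T
  rw [← zpow_natCast b (Nat.gcd α T), h, zpow_add, zpow_mul, zpow_mul, zpow_natCast, zpow_natCast, hT,
    one_zpow, mul_one]

/-- An odd power of a `2`-element generates the same cyclic group. -/
theorem mem_zpowers_pow_of_odd {C : Type*} [Group C] {x : C} {k : ℕ} (hk : Odd k) {T : ℕ}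
    (hT : x ^ 2 ^ T = 1) : x ∈ zpowers (x ^ k) := by
  have h := pow_gcd_mem_zpowers x k (2 ^ T) hT
  have hg : Nat.gcd k (2 ^ T) = 1 := Nat.Coprime.pow_right T (Nat.coprime_two_right.2 hk)
  rwa [hg, pow_one] at h

/-- Subgroups of cyclic `2`-groups are totally ordered: the elementwise statement. -/
theorem mem_zpowers_or {C : Type*} [Group C] [Finite C] (hc : IsCyclic C) (hC : IsPGroup 2 C) (x w : C) :
    x ∈ zpowers w ∨ w ∈ zpowers x := by
  obtain ⟨b, hb⟩ := hc.exists_generator
  obtain ⟨M, hM⟩ := IsPGroup.iff_card.1 hC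
  have hbT : b ^ 2 ^ M = 1 := by
    rw [← hM]
    exact pow_card_eq_one'
  have hnat : ∀ a : C, ∃ α : ℕ, a = b ^ α := by
    intro a
    obtain ⟨k, hk⟩ := mem_zpowers_iff.1 (hb a)
    have h1 : b ^ (k % (2 ^ M : ℕ) : ℤ) = a := by
      rw [← hk]
      conv_rhs => rw [← Int.emod_add_mul_ediv k (2 ^ M : ℕ)]
      rw [zpow_add, zpow_mul, zpow_natCast, hbT, one_zpow, mul_one]
    have h2 : 0 ≤ k % (2 ^ M : ℕ) := Int.emod_nonneg _ (by positivity)
    refine ⟨(k % (2 ^ M : ℕ)).toNat, ?_⟩
    rw [← zpow_natCast, Int.toNat_of_nonneg h2, h1]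
  obtain ⟨α, rfl⟩ := hnat x
  obtain ⟨β, rfl⟩ := hnat w
  obtain ⟨d₁, -, hd₁⟩ := (Nat.dvd_prime_pow Nat.prime_two).1 (Nat.gcd_dvd_right α (2 ^ M))
  obtain ⟨d₂, -, hd₂⟩ := (Nat.dvd_prime_pow Nat.prime_two).1 (Nat.gcd_dvd_right β (2 ^ M))
  have hα := Nat.gcd_dvd_left α (2 ^ M)
  have hβ := Nat.gcd_dvd_left β (2 ^ M)
  have h1 := pow_gcd_mem_zpowers b α (2 ^ M) hbT
  have h2 := pow_gcd_mem_zpowers b β (2 ^ M) hbT
  rcases le_total d₁ d₂ with h | h
  · right
    obtain ⟨u, hu⟩ : 2 ^ d₁ ∣ β := by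
      rw [hd₂] at hβ
      exact (pow_dvd_pow 2 h).trans hβ
    rw [hd₁] at h1
    rw [hu, pow_mul]
    exact pow_mem h1 u
  · left
    obtain ⟨u, hu⟩ : 2 ^ d₂ ∣ α := by
      rw [hd₁] at hα
      exact (pow_dvd_pow 2 h).trans hα
    rw [hd₂] at h2
    rw [hu, pow_mul]
    exact pow_mem h2 u

/-- **A metacyclic `2`-group with a dihedral or quaternion subgroup of order `8`.** -/
theorem iso_of_inverted [Finite G] (hG : IsPGroup 2 G) (hm : Cfsg.IsMetacyclic G) {i s : G}
    (hi : orderOf i = 4) (hs : s * i * s⁻¹ = i⁻¹) (hs2 : s ^ 2 ∈ zpowers i) :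
    (∃ m, Nonempty (G ≃* DihedralGroup m)) ∨ (∃ m, Nonempty (G ≃* QuaternionGroup m)) ∨
      Cfsg.IsQuasiDihedral G := by
  classical
  obtain ⟨N, hN, hc, hq⟩ := hm
  have hi4 : i ^ 4 = 1 := by rw [← hi]; exact pow_orderOf_eq_one i
  have hi2 : i ^ 2 ≠ 1 := pow_ne_one_of_lt_orderOf (by norm_num) (by omega)
  have hi1 : i ≠ 1 := by
    rintro rfl
    simp at hi2
  have hiinv : i⁻¹ ≠ i := by
    intro h
    apply hi2
    rw [pow_two]
    nth_rewrite 1 [← h]
    exact inv_mul_cancel i
  let q : G →* G ⧸ N := QuotientGroup.mk' N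
  have hqc : ∀ a b : G ⧸ N, a * b = b * a := comm_of_isCyclic hq
  have hq1 : q i ^ 2 = 1 := by
    have h1 : q s * q i * (q s)⁻¹ = (q i)⁻¹ := by
      rw [← map_mul, ← map_inv, ← map_mul, hs, map_inv]
    rw [hqc (q s), mul_inv_cancel_right] at h1
    rw [pow_two]
    nth_rewrite 1 [h1]
    exact inv_mul_cancel _
  have hi2N : i ^ 2 ∈ N := by
    rw [← QuotientGroup.ker_mk' N, MonoidHom.mem_ker, map_pow]
    exact hq1
  -- `s ^ 2 ∈ {1, i ^ 2}`
  have hs2' : s ^ 2 = 1 ∨ s ^ 2 = i ^ 2 := by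
    obtain ⟨k, hk⟩ := mem_zpowers_iff.1 hs2
    have h1 : s * (i ^ k) * s⁻¹ = i ^ k := by
      rw [hk, pow_two]
      group
    have h2 : s * (i ^ k) * s⁻¹ = (i⁻¹) ^ k := by
      rw [← hs, conj_zpow]
    have h3 : i ^ (2 * k) = 1 := by
      rw [h2, inv_zpow] at h1
      rw [two_mul, zpow_add]
      nth_rewrite 1 [← h1]
      exact inv_mul_cancel _
    have h4 := orderOf_dvd_iff_zpow_eq_one.2 h3
    rw [hi] at h4
    have h5 : k % 4 = 0 ∨ k % 4 = 2 := by
      have : ((4 : ℕ) : ℤ) = 4 := rfl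
      rw [this] at h4
      omega
    have h6 := zpow_mod_orderOf i k
    rw [hi] at h6
    rcases h5 with h5 | h5
    · left
      rw [← hk, ← h6]
      have : ((4 : ℕ) : ℤ) = 4 := rfl
      rw [this, h5, zpow_zero]
    · right
      rw [← hk, ← h6]
      have : ((4 : ℕ) : ℤ) = 4 := rfl
      rw [this, h5]
      norm_cast
  have hsi' : s⁻¹ * i * s = i⁻¹ := by
    have h1 : i = s⁻¹ * i⁻¹ * s := by
      rw [← hs]
      group
    have h2 : (s⁻¹ * i⁻¹ * s)⁻¹ = s⁻¹ * i * s := by group
    rw [← h2, ← h1]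
  have hs_comm : s * i ≠ i * s := by
    intro h
    apply hiinv
    rw [← hs, h, mul_inv_cancel_right]
  have hq2 : q s ^ 2 = 1 := by
    rcases hs2' with h | h
    · rw [← map_pow, h, map_one]
    · rw [← map_pow, h, map_pow, hq1]
  -- reduce to the data `(x, y)`
  have hkey : ∀ x y : G, x ∈ N → orderOf x = 4 → y * x * y⁻¹ = x⁻¹ → y ^ 2 ∈ N →
      (∃ m, Nonempty (G ≃* DihedralGroup m)) ∨ (∃ m, Nonempty (G ≃* QuaternionGroup m)) ∨
      Cfsg.IsQuasiDihedral G := by
    intro x y hxN hx hy hy2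
    have hidx := index_eq_two hG N hc hq hxN hx hy hy2
    exact iso_of_index_two hG N hN hc hidx hxN hx hy
  have hNcyc : ∀ a ∈ N, a ^ 2 = 1 → a = 1 ∨ a = i ^ 2 := by
    intro a ha ha2
    have h := sq_cases_of_isCyclic hc (a := ⟨a, ha⟩) (b := ⟨i ^ 2, hi2N⟩)
      (Subtype.ext ha2) (Subtype.ext (by
        show (i ^ 2) ^ 2 = 1
        rw [← pow_mul]
        exact hi4))
    rcases h with h | h | h
    · left; exact congrArg Subtype.val h
    · exfalso; exact hi2 (congrArg Subtype.val h)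
    · right; exact congrArg Subtype.val h
  have hord4 : ∀ a : G, a ^ 2 = i ^ 2 → orderOf a = 4 := by
    intro a ha
    have : orderOf a = 2 ^ (1 + 1) := by
      apply orderOf_eq_prime_pow
      · rw [pow_one, ha]
        exact hi2
      · rw [show 2 ^ (1 + 1) = 2 * 2 by norm_num, pow_mul, ha, ← pow_mul]
        exact hi4
    simpa using this
  rcases sq_cases_of_isCyclic hq hq1 hq2 with h | h | h
  · -- `i ∈ N`
    have hiN : i ∈ N := by
      rw [← QuotientGroup.ker_mk' N]
      exact h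
    refine hkey i s hiN hi hs ?_
    rcases hs2' with h2 | h2
    · rw [h2]; exact one_mem _
    · rw [h2]; exact hi2N
  · -- `s ∈ N`
    have hsN : s ∈ N := by
      rw [← QuotientGroup.ker_mk' N]
      exact h
    have hs2'' : s ^ 2 = i ^ 2 := by
      rcases hs2' with h2 | h2
      · exfalso
        rcases hNcyc s hsN h2 with h3 | h3
        · rw [h3] at hs_comm
          exact hs_comm (by group)
        · rw [h3] at hs_comm
          apply hs_comm
          rw [pow_two]
          group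
      · exact h2
    refine hkey s i hsN (hord4 s hs2'') ?_ hi2N
    have h1 : i * s = s * i⁻¹ := by
      rw [← hsi']
      group
    rw [h1]
    have h2 : s * i⁻¹ * i⁻¹ = s * (i ^ 2)⁻¹ := by
      rw [pow_two]
      group
    rw [h2, ← hs2'', pow_two]
    group
  · -- `i s⁻¹ ∈ N`
    have hxN : i * s⁻¹ ∈ N := by
      rw [← QuotientGroup.ker_mk' N, MonoidHom.mem_ker, map_mul, map_inv]
      show q i * (q s)⁻¹ = 1
      rw [h, mul_inv_cancel]
    have hxx : (i * s⁻¹) ^ 2 = (s ^ 2)⁻¹ := by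
      have e : (i * s⁻¹) ^ 2 = i * (s⁻¹ * i * s) * (s⁻¹ * s⁻¹) := by
        rw [pow_two]
        group
      rw [e, hsi', pow_two]
      group
    have hs2'' : s ^ 2 = i ^ 2 := by
      rcases hs2' with h2 | h2
      · exfalso
        rw [h2, inv_one] at hxx
        rcases hNcyc _ hxN hxx with h3 | h3
        · have h4 : i = s := mul_inv_eq_one.1 h3
          apply hs_comm
          rw [h4]
        · have h4 : s⁻¹ = i := by
            have h5 : i * s⁻¹ = i * i := by rw [h3, pow_two]
            exact mul_left_cancel h5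
          apply hs_comm
          have h6 : s = i⁻¹ := by rw [← h4, inv_inv]
          rw [h6]
          group
      · exact h2
    have hxx' : (i * s⁻¹) ^ 2 = i ^ 2 := by
      rw [hxx, hs2'']
      have h3 : i ^ 2 * i ^ 2 = 1 := by
        rw [← pow_add]
        exact hi4
      exact inv_eq_of_mul_eq_one_left h3
    refine hkey (i * s⁻¹) s hxN (hord4 _ hxx') ?_ (by rw [hs2'']; exact hi2N)
    have h1 : s * i⁻¹ = i * s := by
      have h2 : s * i⁻¹ * s⁻¹ = i := by
        have : s * i⁻¹ * s⁻¹ = (s * i * s⁻¹)⁻¹ := by group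
        rw [this, hs, inv_inv]
      calc s * i⁻¹ = (s * i⁻¹ * s⁻¹) * s := by group
        _ = i * s := by rw [h2]
    have h3 : (i * s) * (s * i) = 1 := by
      have e : (i * s) * (s * i) = i * s ^ 2 * i := by
        rw [pow_two]
        group
      rw [e, hs2'']
      have e2 : i * i ^ 2 * i = i ^ 4 := by
        rw [pow_two, show (4 : ℕ) = 1 + 1 + 1 + 1 from rfl, pow_succ, pow_succ, pow_succ, pow_one]
        group
      rw [e2, hi4]
    have h4 : (i * s⁻¹)⁻¹ = s * i⁻¹ := by group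
    rw [h4, h1]
    have h5 : s * (i * s⁻¹) * s⁻¹ = (s * i * s⁻¹) * s⁻¹ := by group
    rw [h5, hs]
    have h6 : i⁻¹ * s⁻¹ = (s * i)⁻¹ := by group
    rw [h6]
    exact (eq_inv_of_mul_eq_one_left h3).symm

end Cfsg.Agent.Lib.Fusion.Resist.TwoStruct
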